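import Cfsg.Agent.Lib.B2Iso.Rho
import Cfsg.Agent.Lib.Chev.CheckB2

/-!
# The certificate for the root elements of type B2
-/

set_option autoImplicit false

namespace Cfsg.Agent.B2Iso

open Cfsg.Lie Cfsg.Agent.Chev

/-- Kronecker delta. -/
def dlt (a b : I) : ℤ := if a = b then 1 else 0

/-- The linear part of a root element. -/
def lin (e : ℕ × ℕ × ℤ) (a b : I) : ℤ :=
  e.2.2 * (jint (ix e.1) b * dlt a (ix e.2.1) - jint (ix e.2.1) b * dlt a (ix e.1))

/-- The quadratic part of a root element. -/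
def quad (e : ℕ × ℕ × ℤ) (a b : I) : ℤ :=
  -(e.2.2 * e.2.2 * dlt (ix e.2.1) (.inl ()) * (jint (ix e.1) b * dlt a (ix e.1)))

/-- The table entry of a root. -/
def rootAt (r : ℕ) : ℕ × ℕ × ℤ := roots.getD r (1, 0, 1)

/-- The coefficient of `t ^ j` in a product of two entries. -/
def term (e : ℕ × ℕ × ℤ) (a c b d : I) (j : ℕ) : ℤ :=
  match j with
  | 0 => dlt a c * dlt b d
  | 1 => dlt a c * lin e b d + lin e a c * dlt b d
  | 2 => dlt a c * quad e b d + lin e a c * lin e b d + quad e a c * dlt b d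
  | 3 => lin e a c * quad e b d + quad e a c * lin e b d
  | _ => quad e a c * quad e b d

/-- The coefficient of `t ^ j` in an entry of the image of a root element. -/
def coef (e : ℕ × ℕ × ℤ) (P R : List (ℕ × ℕ × ℤ)) (j : ℕ) : ℤ :=
  (P.map fun p => (R.map fun q =>
    p.2.2 * (q.2.2 * term e (ix p.1) (ix q.1) (ix p.2.1) (ix q.2.1) j)).sum).sum

/-- The coefficient of `t ^ j` in a column of the table. -/
def colCoef (L : List (ℕ × ℕ × ℤ)) (k j : ℕ) : ℤ :=
  (L.map fun y => if y.1 = k ∧ y.2.1 = j then y.2.2 else 0).sum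

theorem table_ok : ∀ r : Fin 8, ∀ l : J, (∀ y ∈ B2.cert.col r.val (pos l), y.2.1 < 5) ∧
    ∀ k : J, ∀ j : Fin 5, colCoef (B2.cert.col r.val (pos l)) (pos k) j.val =
      coef (rootAt r.val) (Pk k) (Rk l) j.val := by
  decide +kernel

theorem root_ok : ∀ r : Fin 8, (ix (rootAt r.val).1 ≠ .inl () ∧
    ix (rootAt r.val).2.1 ≠ bar (ix (rootAt r.val).1)) ∧
    ((rootAt r.val).2.2 = 1 ∨ (rootAt r.val).2.2 = -1) := by decide +kernel

set_option synthInstance.maxSize 4000 in
set_option synthInstance.maxHeartbeats 400000 in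
theorem root_cover : ∀ p q : I, p ≠ .inl () → q ≠ bar p → q ≠ p → ∃ r : Fin 8,
    (ix (rootAt r.val).1 = p ∧ ix (rootAt r.val).2.1 = q) ∨
      (q ≠ .inl () ∧ ix (rootAt r.val).1 = q ∧ ix (rootAt r.val).2.1 = p) := by decide +kernel

end Cfsg.Agent.B2Iso
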