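import Cfsg.Agent.Lib.B2Iso.Root

/-!
# The type B2 group is the projective derived orthogonal group in dimension five

The adjoint representation maps the derived isometry group onto the group of the tables, with kernel the centre.
-/

set_option autoImplicit false

namespace Cfsg.Agent.B2Iso

open scoped Matrix Kronecker
open Cfsg.Lie Cfsg.Agent.Chev Cfsg.Agent.MaxCl.Orth Cfsg.Agent.MaxCl

variable {F : Type*} [Field F]

theorem rho_root (r : Fin 8) (t : F) :
    rho F ⟨rootEl r.val t, rootEl_mem r.val t⟩ = xg chevB2 F r.val t := by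
  have h1 := rho_apply (F := F) ⟨rootEl r.val t, rootEl_mem r.val t⟩
  have h2 := rhoMat_root_eq (F := F) r.isLt t
  have h3 := Good.coe_xg (F := F) (D := chevB2) ⟨B2.cert, B2.valid⟩ r.val t
  exact Units.ext ((h1.trans h2).trans h3.symm)

variable (F) in
/-- The adjoint representation on the derived isometry group. -/
noncomputable def phi : ↥(Omega F (⇑(qf F))) →* GL chevB2.Idx F :=
  (rho F).comp (Omega F (⇑(qf F))).subtype

theorem phi_range (hF : ∃ a : F, a ≠ 0 ∧ a ≠ 1) : (phi F).range = chevB2.group F := by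
  have hD : Good chevB2 := ⟨_, B2.valid⟩
  refine le_antisymm ?_ ?_
  · rintro _ ⟨⟨⟨g, hg⟩, hgo⟩, rfl⟩
    have hgr : g ∈ rootGroup F := by
      rw [← omega_eq_rootGroup hF]; exact ⟨⟨g, hg⟩, hgo, rfl⟩
    show rho F ⟨g, hg⟩ ∈ _
    clear hgo
    induction hgr using Subgroup.closure_induction with
    | mem x hx =>
      obtain ⟨r, t, rfl⟩ := hx
      rw [rho_root]; exact hD.xg_mem_group _ t
    | one => rw [show (⟨1, hg⟩ : ↥(isometryGroup F (⇑(qf F)))) = 1 from rfl, map_one]; exact one_mem _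
    | mul x y hx hy ihx ihy =>
      rw [show (⟨x * y, hg⟩ : ↥(isometryGroup F (⇑(qf F)))) =
        ⟨x, rootGroup_le_iso hx⟩ * ⟨y, rootGroup_le_iso hy⟩ from rfl, map_mul]
      exact mul_mem (ihx _) (ihy _)
    | inv x hx ih =>
      rw [show (⟨x⁻¹, hg⟩ : ↥(isometryGroup F (⇑(qf F)))) = ⟨x, rootGroup_le_iso hx⟩⁻¹ from rfl, map_inv]
      exact inv_mem (ih _)
  · rw [hD.group_eq_closure, Subgroup.closure_le]
    rintro _ ⟨r, hr, t, rfl⟩
    have hmem : rootEl r t ∈ Cfsg.Geo.omegaGL (⇑(qf F)) := by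
      rw [omega_eq_rootGroup hF]; exact Subgroup.subset_closure ⟨⟨r, hr⟩, t, rfl⟩
    obtain ⟨⟨g, hg⟩, hgo, (hge : g = _)⟩ := hmem
    refine ⟨⟨⟨g, hg⟩, hgo⟩, ?_⟩
    subst hge
    exact rho_root ⟨r, hr⟩ t

theorem root_mem_omega (hF : ∃ a : F, a ≠ 0 ∧ a ≠ 1) {p q : I} (hp : p ≠ o) (h : q ≠ bar p) :
    (⟨sg (qf F) (ev p) ((1 : F) • ev q), sg_mem_iso _ _ _⟩ : ↥(isometryGroup F (⇑(qf F)))) ∈
      Omega F (⇑(qf F)) := by
  have h1 := sg_ev_mem (F := F) (q := q) hp h 1
  rw [← omega_eq_rootGroup hF] at h1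
  obtain ⟨⟨g, hg⟩, hgo, (hge : g = _)⟩ := h1
  subst hge
  exact hgo

theorem center_le_scalar (hF : ∃ a : F, a ≠ 0 ∧ a ≠ 1) {z : ↥(Omega F (⇑(qf F)))}
    (hz : z ∈ Subgroup.center _) :
    ∃ c : F, c * c = 1 ∧ (((z : ↥(isometryGroup F (⇑(qf F)))) : GL I F) : Matrix I I F) = c • 1 := by
  obtain ⟨⟨z, hzi⟩, hzo⟩ := z
  set A := (z : Matrix I I F) with hA
  have hAe : ∀ i j, act z (ev j) i = A i j := fun i j => by
    rw [act_apply, ev, Matrix.mulVec_single_one]; rfl
  have rel : ∀ w u : I, u ≠ o → w ≠ bar u → w ≠ u → ∀ i, A i w - (if w = o then A i u else 0) =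
      A (bar u) (bar u) * (if i = w then 1 else 0) -
        (QuadraticMap.polar (⇑(qf F)) (ev w) (act z (ev (bar u))) +
          qf F (ev w) * A (bar u) (bar u)) * (if i = u then 1 else 0) := by
    intro w u hu hwu hne i
    have hc : sg (qf F) (ev u) ((1 : F) • ev w) * z = z * sg (qf F) (ev u) ((1 : F) • ev w) :=
      congrArg (fun a : ↥(Omega F (⇑(qf F))) => ((a : ↥(isometryGroup F (⇑(qf F)))) : GL I F))
        (Subgroup.mem_center_iff.1 hz ⟨_, root_mem_omega hF hu hwu⟩)
    have h := congrArg (fun g => act g (ev (bar u)) i) hc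
    have e1 : ev (F := F) (bar u) (bar u) = 1 := Pi.single_eq_same _ _
    have e2 : QuadraticMap.polar (⇑(qf F)) (ev w) (ev (bar u)) = 0 := by
      rw [B_ev_any]
      have : ∀ w u : I, u ≠ o → w ≠ bar u → w ≠ u → jint w (bar u) = 0 := by decide +kernel
      rw [this w u hu hwu hne, Int.cast_zero]
    have e3 : qf F (ev w) = if w = o then 1 else 0 := by
      rw [Q_ev_any, dlt]; split <;> simp
    simp only [act_mul, act_root hu hwu, e1, e2, e3, map_add, map_sub, map_smul, Pi.add_apply,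
      Pi.sub_apply, Pi.smul_apply, hAe, smul_eq_mul, one_mul, zero_add, mul_one] at h
    simp only [ev, Pi.single_apply] at h ⊢
    rw [show qf F (Pi.single w (1 : F)) = if w = o then 1 else 0 from e3]
    split_ifs at h ⊢ <;> linear_combination -h
  have rl : ∀ w u : I, w ≠ o → u ≠ o → w ≠ bar u → w ≠ u → ∀ i, i ≠ u →
      A i w = A (bar u) (bar u) * (if i = w then 1 else 0) := by
    intro w u hw hu h1 h2 i hi
    have := rel w u hu h1 h2 i
    rw [if_neg hw, if_neg hi, mul_zero, sub_zero, sub_zero] at this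
    exact this
  set c := A e₁ e₁ with hc
  have d1 : A f₂ f₂ = c := by
    have := rl e₁ e₂ (by decide) (by decide) (by decide) (by decide) e₁ (by decide)
    rw [if_pos rfl, mul_one] at this; exact this.symm
  have d2 : A e₂ e₂ = c := by
    have := rl e₁ f₂ (by decide) (by decide) (by decide) (by decide) e₁ (by decide)
    rw [if_pos rfl, mul_one] at this; exact this.symm
  have d3 : A f₁ f₁ = c := by
    have := rl f₁ e₂ (by decide) (by decide) (by decide) (by decide) f₁ (by decide)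
    rw [if_pos rfl, mul_one] at this; exact this.trans d1
  have hd : ∀ w, w ≠ o → A w w = c := by rw [forall_I]; simp [← hc, d1, d2, d3]
  have hoff : ∀ w, w ≠ o → ∀ i, A i w = c * (if i = w then 1 else 0) := by
    intro w hw i
    have : ∀ w i : I, w ≠ o → ∃ u : I, u ≠ o ∧ w ≠ bar u ∧ w ≠ u ∧ i ≠ u := by decide +kernel
    obtain ⟨u, h1, h2, h3, h4⟩ := this w i hw
    have hbu : bar u ≠ o := fun e => h1 (by rw [← bar_bar u, e]; rfl)
    rw [rl w u hw h1 h2 h3 i h4, hd _ hbu]
  have hBz : ∀ u : I, bar u ≠ o → QuadraticMap.polar (⇑(qf F)) (ev o) (act z (ev (bar u))) = 0 :=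
    fun u hu => by
      rw [B_ev_o, hAe, hoff _ hu, if_neg hu.symm]; ring
  have ho : ∀ i, A i o = c * (if i = o then 1 else 0) := by
    intro i
    have := rel o e₁ (by decide) (by decide) (by decide) i
    rw [if_pos rfl, hBz e₁ (by decide), Q_ev_o, hoff e₁ (by decide), hd (bar e₁) (by decide)] at this
    linear_combination this
  have hA' : A = c • (1 : Matrix I I F) := Matrix.ext fun i j => by
    rw [Matrix.smul_apply, Matrix.one_apply, smul_eq_mul]
    by_cases hj : j = o
    · subst hj; exact ho i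
    · exact hoff j hj i
  refine ⟨c, ?_, hA'⟩
  have h := hzi (ev o) (ev o)
  simp only [Units.coeHom_apply] at h
  rw [← hA, hA', Matrix.smul_mulVec, Matrix.one_mulVec, QuadraticMap.map_smul, smul_eq_mul, Q_ev_o,
    mul_one] at h
  exact h

theorem scalar_of_phi_eq_one {g : ↥(Omega F (⇑(qf F)))} (hg : phi F g = 1) :
    ∃ c : F, (((g : ↥(isometryGroup F (⇑(qf F)))) : GL I F) : Matrix I I F) = c • 1 := by
  obtain ⟨⟨g, hgi⟩, hgo⟩ := g
  set A := (g : Matrix I I F) with hA
  have key : ∀ w u : I, u ≠ o → w ≠ bar u → w ≠ u → ∀ y z,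
      A y w * A z u - A z w * A y u =
        (if y = w ∧ z = u then 1 else 0) - (if z = w ∧ y = u then 1 else 0) := by
    intro w u hu hwu hne y z
    have h := dot_of_rho_eq_one (g := ⟨g, hgi⟩) hg
      (β := (Pi.single (y, z) 1 : I × I → F) - Pi.single (z, y) 1)
      (X := tens (ev w) (ev u))
      ⟨0, fun v => by simp only [sub_dotProduct, single_dotProduct, one_mul, tens]; ring⟩
      (by rw [jvec_dot, QuadraticMap.polar_comm, B_ev hu]; exact Pi.single_eq_of_ne hwu.symm _)
    rw [kron_mulVec_tens, sub_dotProduct, sub_dotProduct, single_dotProduct, single_dotProduct,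
      single_dotProduct, single_dotProduct] at h
    simp only [tens, ev, Matrix.mulVec_single_one, Matrix.col_apply, Pi.single_apply, one_mul,
      mul_ite, mul_one, mul_zero, ite_mul, zero_mul, ← ite_and] at h
    refine h.trans ?_
    simp only [and_comm]
  have h0 : ∀ w u : I, u ≠ o → w ≠ bar u → w ≠ u → ∀ i, i ≠ w → i ≠ u → A i w = 0 ∧ A i u = 0 := by
    intro w u hu hwu hne i hiw hiu
    have k1 := key w u hu hwu hne i u
    have k2 := key w u hu hwu hne i w
    have k3 := key w u hu hwu hne w u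
    simp only [hiw, hiu, hne, hne.symm, if_false, if_true, and_true, and_false, false_and, true_and,
      sub_zero] at k1 k2 k3
    exact ⟨by linear_combination (A w w) * k1 - (A u w) * k2 - (A i w) * k3,
      by linear_combination (A w u) * k1 - (A u u) * k2 - (A i u) * k3⟩
  have hoff : ∀ i j : I, i ≠ j → A i j = 0 := by
    intro i j hij
    have : ∀ i j : I, i ≠ j → ∃ u : I, u ≠ o ∧ j ≠ bar u ∧ j ≠ u ∧ i ≠ u := by decide +kernel
    obtain ⟨u, h1, h2, h3, h4⟩ := this i j hij
    exact (h0 j u h1 h2 h3 i hij h4).1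
  have hdd : ∀ w u : I, u ≠ o → w ≠ bar u → w ≠ u → A w w * A u u = 1 := by
    intro w u hu hwu hne
    have k := key w u hu hwu hne w u
    simp only [hne, hne.symm, if_false, if_true, and_true, and_false, false_and, true_and, sub_zero] at k
    rw [hoff w u hne, mul_zero, sub_zero] at k
    exact k
  set a := A e₁ e₁ with ha
  have ha2 : a * a = 1 := by
    have h1 := hdd e₁ e₂ (by decide) (by decide) (by decide)
    have h2 := hdd f₁ e₂ (by decide) (by decide) (by decide)
    have h : qf F (act g (ev e₁ + ev f₁)) = qf F (ev e₁ + ev f₁) := Q_act hgi _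
    simp only [act_apply] at h
    rw [← hA, qf_eval, qf_eval] at h
    simp [ev, Matrix.mulVec_add, hoff, Pi.single_apply] at h
    rw [← ha] at h1 h
    have e : A e₂ e₂ ≠ 0 := fun e => by rw [e, mul_zero] at h1; exact zero_ne_one h1
    have hf : A f₁ f₁ = a := mul_right_cancel₀ e (h2.trans h1.symm)
    rw [hf] at h
    exact h
  have ha0 : a ≠ 0 := fun e => by rw [e, mul_zero] at ha2; exact zero_ne_one ha2
  have q1 : A e₂ e₂ = a := mul_left_cancel₀ ha0 ((hdd e₁ e₂ (by decide) (by decide) (by decide)).trans ha2.symm)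
  have q2 : A f₂ f₂ = a := mul_left_cancel₀ ha0 ((hdd e₁ f₂ (by decide) (by decide) (by decide)).trans ha2.symm)
  have q3 : A f₁ f₁ = a := mul_right_cancel₀ (b := a) ha0
    ((q1 ▸ hdd f₁ e₂ (by decide) (by decide) (by decide)).trans ha2.symm)
  have q0 : A o o = a := mul_right_cancel₀ (b := a) ha0
    ((hdd o e₁ (by decide) (by decide) (by decide)).trans ha2.symm)
  refine ⟨a, Matrix.ext fun i j => ?_⟩
  rw [Matrix.smul_apply, Matrix.one_apply, smul_eq_mul, mul_ite, mul_one, mul_zero]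
  by_cases hij : i = j
  · subst hij
    rw [if_pos rfl]
    revert i
    rw [forall_I]
    exact ⟨q0, rfl, q1, q3, q2⟩
  · rw [if_neg hij]; exact hoff i j hij

theorem phi_ker (hF : ∃ a : F, a ≠ 0 ∧ a ≠ 1) :
    (phi F).ker = Subgroup.center ↥(Omega F (⇑(qf F))) := by
  refine le_antisymm (fun g hg => ?_) (fun z hz => ?_)
  · obtain ⟨c, hc⟩ := scalar_of_phi_eq_one (MonoidHom.mem_ker.1 hg)
    refine Subgroup.mem_center_iff.2 fun x => Subtype.ext (Subtype.ext (Units.ext ?_))
    simp only [Subgroup.coe_mul, Units.val_mul, hc, Matrix.smul_mul, Matrix.mul_smul, one_mul, mul_one]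
  · obtain ⟨c, hc2, hc⟩ := center_le_scalar hF hz
    refine MonoidHom.mem_ker.2 (Units.ext ?_)
    refine (rho_apply (z : ↥(isometryGroup F (⇑(qf F))))).trans ?_
    show rhoMat _ = (1 : Matrix J J F)
    rw [hc, ← rhoMat_one]
    refine Matrix.ext fun k l => ?_
    simp only [rhoMat, Matrix.of_apply, Matrix.smul_kronecker, Matrix.kronecker_smul, smul_smul, hc2,
      one_smul]

theorem nonempty_iso (hF : ∃ a : F, a ≠ 0 ∧ a ≠ 1) :
    Nonempty (↥(chevB2.group F) ≃* Cfsg.POmega F (quadFormOdd 2 F)) := by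
  have h : Nonempty (↥(chevB2.group F) ≃* Cfsg.POmega F (⇑(qf F))) :=
    ⟨((QuotientGroup.quotientMulEquivOfEq (phi_ker hF).symm).trans
      ((QuotientGroup.quotientKerEquivRange (phi F)).trans
        (MulEquiv.subgroupCongr (phi_range hF)))).symm⟩
  rwa [coe_qf] at h

end Cfsg.Agent.B2Iso
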