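import Cfsg.Agent.Lib.B2Iso.Check
import Cfsg.Agent.Lib.MaxCl.OrthBase

/-!
# The derived isometry group in dimension five

Over every field with more than two elements, in characteristic two as well, the derived group of the
isometry group of `x₀² + x₁y₁ + x₂y₂` is generated by the eight families of root elements: every isometry is a
product of root elements, a diagonal one and possibly a transposition of a hyperbolic pair.
-/

set_option autoImplicit false

namespace Cfsg.Agent.B2Iso

open scoped Matrix Kronecker commutatorElement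
open Cfsg.Agent.MaxCl.Orth Cfsg.Agent.MaxCl

/-- The five indices. -/
abbrev o : I := .inl ()

/-- The five indices. -/
abbrev e₁ : I := .inr (.inl 0)

/-- The five indices. -/
abbrev e₂ : I := .inr (.inl 1)

/-- The five indices. -/
abbrev f₁ : I := .inr (.inr 0)

/-- The five indices. -/
abbrev f₂ : I := .inr (.inr 1)

theorem forall_I {P : I → Prop} : (∀ a, P a) ↔ P o ∧ P e₁ ∧ P e₂ ∧ P f₁ ∧ P f₂ := by
  refine ⟨fun h => ⟨h _, h _, h _, h _, h _⟩, fun ⟨h0, h1, h2, h3, h4⟩ a => ?_⟩
  rcases a with ⟨⟩ | i | i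
  · exact h0
  · fin_cases i <;> assumption
  · fin_cases i <;> assumption

variable {F : Type*} [Field F]

/-- A basis vector. -/
def ev (a : I) : I → F := Pi.single a 1

theorem B_ev {p : I} (hp : p ≠ o) (x : I → F) :
    QuadraticMap.polar (⇑(qf F)) (ev p) x = x (bar p) := by
  rw [polar_qf]
  revert hp
  revert p
  rw [forall_I]
  simp [ev, bar, o, e₁, e₂, f₁, f₂]

theorem B_ev_o (x : I → F) : QuadraticMap.polar (⇑(qf F)) (ev o) x = 2 * x o := by
  rw [polar_qf]; simp [ev]

theorem Q_ev {p : I} (hp : p ≠ o) : qf F (ev p) = 0 := by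
  rw [qf_apply]
  revert hp
  revert p
  rw [forall_I]
  simp [ev, quadFormOdd, Fin.sum_univ_two, o, e₁, e₂, f₁, f₂]

theorem Q_ev_o : qf F (ev o) = 1 := by
  rw [qf_apply]; simp [ev, quadFormOdd]

theorem qf_eval (x : I → F) : qf F x = x o * x o + (x e₁ * x f₁ + x e₂ * x f₂) := by
  rw [qf_apply]; simp [quadFormOdd, Fin.sum_univ_two, sq]

theorem B_ev_smul {p q : I} (hp : p ≠ o) (h : q ≠ bar p) (c : F) :
    QuadraticMap.polar (⇑(qf F)) (ev p) (c • ev q) = 0 := by
  rw [B_ev hp]; simp [ev, h.symm]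

theorem act_root {p q : I} (hp : p ≠ o) (h : q ≠ bar p) (c : F) (x : I → F) :
    act (sg (qf F) (ev p) (c • ev q)) x = x + x (bar p) • c • ev q -
      (c * QuadraticMap.polar (⇑(qf F)) (ev q) x + c * c * qf F (ev q) * x (bar p)) • ev p := by
  rw [act_sg _ (Q_ev hp) (B_ev_smul hp h c), B_ev hp, QuadraticMap.map_smul,
    QuadraticMap.polar_smul_left, smul_eq_mul, smul_eq_mul]

theorem sg_root_swap {p q : I} (hp : p ≠ o) (hq : q ≠ o) (h : q ≠ bar p) (c : F) :
    sg (qf F) (ev p) (c • ev q) = sg (qf F) (ev q) ((-c) • ev p) := by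
  refine gl_ext fun x => ?_
  rw [act_root hp h, act_root hq (fun e => h (by rw [e, bar_bar])), B_ev hp, B_ev hq, Q_ev hp, Q_ev hq]
  module

/-- The root element of a table entry. -/
noncomputable def rootEl (r : ℕ) (t : F) : GL I F :=
  sg (qf F) (ev (ix (rootAt r).1)) ((((rootAt r).2.2 : F) * t) • ev (ix (rootAt r).2.1))

theorem rootEl_mem (r : ℕ) (t : F) : rootEl r t ∈ isometryGroup F (⇑(qf F)) := by
  unfold rootEl
  exact sg_mem_iso _ _ _

/-- The group generated by the root elements. -/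
noncomputable def rootGroup (F : Type*) [Field F] : Subgroup (GL I F) :=
  Subgroup.closure {g | ∃ r : Fin 8, ∃ t : F, g = rootEl r.val t}

theorem rootGroup_le_iso : rootGroup F ≤ isometryGroup F (⇑(qf F)) := by
  rw [rootGroup, Subgroup.closure_le]
  rintro _ ⟨r, t, rfl⟩
  exact rootEl_mem r.val t

theorem sg_ev_mem {p q : I} (hp : p ≠ o) (h : q ≠ bar p) (c : F) :
    sg (qf F) (ev p) (c • ev q) ∈ rootGroup F := by
  by_cases hpq : q = p
  · subst hpq
    have e : sg (qf F) (ev q) (c • ev q) = 1 := gl_ext fun x => by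
      rw [act_root hp h, act_one, B_ev hp, Q_ev hp]; module
    rw [e]; exact one_mem _
  obtain ⟨r, hr⟩ := root_cover p q hp h hpq
  have hs : ((rootAt r.val).2.2 : F) * (rootAt r.val).2.2 = 1 := by
    rcases (root_ok r).2 with e | e <;> simp [e]
  rcases hr with ⟨e1, e2⟩ | ⟨hq, e1, e2⟩
  · refine Subgroup.subset_closure ⟨r, (rootAt r.val).2.2 * c, ?_⟩
    rw [rootEl, e1, e2, ← mul_assoc, hs, one_mul]
  · refine Subgroup.subset_closure ⟨r, (rootAt r.val).2.2 * -c, ?_⟩
    rw [rootEl, e1, e2, ← mul_assoc, hs, one_mul, sg_root_swap hp hq h]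

theorem sg_ev_mem_all {p : I} (hp : p ≠ o) (w : I → F) : sg (qf F) (ev p) w ∈ rootGroup F := by
  by_cases h : QuadraticMap.polar (⇑(qf F)) (ev p) w = 0
  swap
  · rw [sg_of_not _ fun e => h e.2]; exact one_mem _
  rw [B_ev hp] at h
  have hw : w = ∑ q, w q • ev q := by funext a; simp [ev, Pi.single_apply]
  rw [hw]
  have key : ∀ s : Finset I, QuadraticMap.polar (⇑(qf F)) (ev p) (∑ q ∈ s, w q • ev q) = 0 ∧
      sg (qf F) (ev p) (∑ q ∈ s, w q • ev q) ∈ rootGroup F := by
    intro s
    induction s using Finset.induction_on with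
    | empty =>
      rw [Finset.sum_empty]
      exact ⟨QuadraticMap.polar_zero_right _ _, by rw [sg_zero]; exact one_mem _⟩
    | insert q s hq ih =>
      rw [Finset.sum_insert hq]
      have h1 : QuadraticMap.polar (⇑(qf F)) (ev p) (w q • ev q) = 0 := by
        by_cases e : q = bar p
        · rw [B_ev hp, e, h]; simp
        · exact B_ev_smul hp e _
      refine ⟨by rw [QuadraticMap.polar_add_right, h1, ih.1, add_zero], ?_⟩
      rw [← sg_add _ (Q_ev hp) h1 ih.1]
      refine mul_mem ?_ ih.2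
      by_cases e : q = bar p
      · rw [e, h, zero_smul, sg_zero]; exact one_mem _
      · exact sg_ev_mem hp e _
  exact (key _).2

/-! ### Diagonal isometries and the transposition -/

/-- A diagonal element. -/
def dg (v : I → Fˣ) : GL I F where
  val := Matrix.diagonal fun i => (v i : F)
  inv := Matrix.diagonal fun i => ((v i)⁻¹ : Fˣ)
  val_inv := by rw [Matrix.diagonal_mul_diagonal]; simp
  inv_val := by rw [Matrix.diagonal_mul_diagonal]; simp

theorem act_dg (v : I → Fˣ) (x : I → F) (i : I) : act (dg v) x i = (v i : F) * x i := by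
  rw [act_apply]; exact Matrix.mulVec_diagonal _ _ _

theorem dg_mul (v w : I → Fˣ) : dg v * dg w = dg (v * w) :=
  Units.ext (by simp [dg, Matrix.diagonal_mul_diagonal])

theorem dg_one : dg (1 : I → Fˣ) = 1 := Units.ext (by simp [dg])

theorem dg_inv (v : I → Fˣ) : (dg v)⁻¹ = dg v⁻¹ :=
  inv_eq_of_mul_eq_one_right (by rw [dg_mul, mul_inv_cancel, dg_one])

/-- The diagonal isometries. -/
def Valid (v : I → Fˣ) : Prop := v o * v o = 1 ∧ v e₁ * v f₁ = 1 ∧ v e₂ * v f₂ = 1

theorem dg_mem {v : I → Fˣ} (hv : Valid v) : dg v ∈ isometryGroup F (⇑(qf F)) := by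
  rw [mem_iso]
  intro x
  obtain ⟨h0, h1, h2⟩ := hv
  have h0' : (v o : F) * v o = 1 := by rw [← Units.val_mul, h0, Units.val_one]
  have h1' : (v e₁ : F) * v f₁ = 1 := by rw [← Units.val_mul, h1, Units.val_one]
  have h2' : (v e₂ : F) * v f₂ = 1 := by rw [← Units.val_mul, h2, Units.val_one]
  simp only [qf_eval, act_dg]
  linear_combination (x o * x o) * h0' + (x e₁ * x f₁) * h1' + (x e₂ * x f₂) * h2'

/-- The transposition of the second pair. -/
def tau : I → I := fun a => if a = e₂ then f₂ else if a = f₂ then e₂ else a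

theorem tau_tau : ∀ a : I, tau (tau a) = a := by decide

/-- The transposition as an element. -/
def sigma : GL I F where
  val := Matrix.of fun i j => if tau i = j then 1 else 0
  inv := Matrix.of fun i j => if tau i = j then 1 else 0
  val_inv := by
    ext i j
    rw [Matrix.mul_apply, Finset.sum_eq_single (tau i)] <;> simp +contextual [tau_tau, Matrix.one_apply, eq_comm]
  inv_val := by
    ext i j
    rw [Matrix.mul_apply, Finset.sum_eq_single (tau i)] <;> simp +contextual [tau_tau, Matrix.one_apply, eq_comm]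

theorem act_sigma (x : I → F) (i : I) : act sigma x i = x (tau i) := by
  rw [act_apply]; simp [sigma, Matrix.mulVec, dotProduct]

theorem sigma_mem : (sigma : GL I F) ∈ isometryGroup F (⇑(qf F)) := by
  rw [mem_iso]
  intro x
  simp only [qf_eval, act_sigma]
  simp [tau, o, e₁, e₂, f₁, f₂]
  ring

theorem sigma_mul_self : (sigma : GL I F) * sigma = 1 :=
  gl_ext fun x => funext fun i => by rw [act_mul, act_one, act_sigma, act_sigma, tau_tau]

theorem act_dg_ev (v : I → Fˣ) (p : I) : act (dg v) (ev p) = (v p : F) • ev p := by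
  funext i
  rw [act_dg]
  by_cases h : i = p <;> simp [ev, h]

theorem act_sigma_ev (p : I) : act sigma (ev (F := F) p) = ev (tau p) := by
  funext i
  rw [act_sigma]
  by_cases h : i = tau p
  · rw [h, tau_tau]; simp [ev]
  · have : tau i ≠ p := fun e => h (by rw [← e, tau_tau])
    simp [ev, h, this]

theorem tau_ne_o : ∀ p : I, p ≠ o → tau p ≠ o := by decide

theorem tau_bar : ∀ p : I, tau (bar p) = bar (tau p) := by decide

theorem conj_dg {v : I → Fˣ} (hv : Valid v) {p q : I} (hp : p ≠ o) (h : q ≠ bar p) (c : F) :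
    dg v * sg (qf F) (ev p) (c • ev q) * (dg v)⁻¹ =
      sg (qf F) (ev p) ((c * ((v p : F) * v q)) • ev q) := by
  rw [conj_sg _ (dg_mem hv), map_smul, act_dg_ev, act_dg_ev, smul_smul,
    sg_smul_left _ (Q_ev hp) (B_ev_smul hp h _), smul_smul]
  congr 2
  ring

theorem conj_sigma {p q : I} (c : F) :
    sigma * sg (qf F) (ev p) (c • ev q) * sigma⁻¹ = sg (qf F) (ev (tau p)) (c • ev (tau q)) := by
  rw [conj_sg _ sigma_mem, map_smul, act_sigma_ev, act_sigma_ev]

/-- The complement: diagonal isometries and the transposition. -/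
def mSet (F : Type*) [Field F] : Set (GL I F) :=
  {g | (∃ v, Valid v ∧ g = dg v) ∨ g = sigma}

theorem mSet_iso {m : GL I F} (hm : m ∈ mSet F) : m ∈ isometryGroup F (⇑(qf F)) := by
  rcases hm with ⟨v, hv, rfl⟩ | rfl
  · exact dg_mem hv
  · exact sigma_mem

theorem mSet_normalize {m : GL I F} (hm : m ∈ mSet F) {g : GL I F} (hg : g ∈ rootGroup F) :
    m * g * m⁻¹ ∈ rootGroup F := by
  induction hg using Subgroup.closure_induction with
  | mem x hx =>
    obtain ⟨r, t, rfl⟩ := hx
    obtain ⟨⟨hp, hq⟩, -⟩ := root_ok r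
    rw [rootEl]
    rcases hm with ⟨v, hv, rfl⟩ | rfl
    · rw [conj_dg hv hp hq]; exact sg_ev_mem hp hq _
    · rw [conj_sigma]
      exact sg_ev_mem (tau_ne_o _ hp) (fun e => hq (by rw [← tau_bar] at e; simpa [tau_tau] using congrArg tau e)) _
  | one => simp
  | mul x y _ _ hx hy =>
    rw [show m * (x * y) * m⁻¹ = (m * x * m⁻¹) * (m * y * m⁻¹) by group]
    exact mul_mem hx hy
  | inv x _ hx =>
    rw [show m * x⁻¹ * m⁻¹ = (m * x * m⁻¹)⁻¹ by group]
    exact inv_mem hx

/-- A torus element. -/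
def tor (a b : Fˣ) : I → Fˣ := fun i =>
  if i = e₁ then a else if i = f₁ then a⁻¹ else if i = e₂ then b else if i = f₂ then b⁻¹ else 1

theorem tor_valid (a b : Fˣ) : Valid (tor a b) := by
  simp [Valid, tor, o, e₁, e₂, f₁, f₂]

theorem tor_mul (a b a' b' : Fˣ) : tor a b * tor a' b' = tor (a * a') (b * b') := by
  funext i
  simp only [tor, Pi.mul_apply]
  split_ifs <;> simp [mul_comm]

theorem tor_inv_mem {l : Fˣ} : dg (tor l l⁻¹) ∈ rootGroup F := by
  have h1 : (f₂ : I) ≠ bar e₁ := by decide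
  have h2 : (f₁ : I) ≠ bar e₂ := by decide
  have e : dg (tor l l⁻¹) = sg (qf F) (ev e₂) ((1 - (l : F)⁻¹) • ev f₁) *
      sg (qf F) (ev e₁) ((-1 : F) • ev f₂) * sg (qf F) (ev e₂) ((1 - (l : F)) • ev f₁) *
      sg (qf F) (ev e₁) ((l : F)⁻¹ • ev f₂) := by
    refine gl_ext fun x => funext ?_
    have hl : (l : F) ≠ 0 := l.ne_zero
    rw [forall_I]
    simp only [act_mul, act_root (by decide : (e₁ : I) ≠ o) h1, act_root (by decide : (e₂ : I) ≠ o) h2,
      B_ev (by decide : (f₁ : I) ≠ o), B_ev (by decide : (f₂ : I) ≠ o), Q_ev (by decide : (f₁ : I) ≠ o),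
      Q_ev (by decide : (f₂ : I) ≠ o), act_dg]
    refine ⟨?_, ?_, ?_, ?_, ?_⟩ <;>
      simp [tor, ev, bar, o, e₁, e₂, f₁, f₂] <;> field_simp <;> ring
  rw [e]
  exact mul_mem (mul_mem (mul_mem (sg_ev_mem (by decide) h2 _) (sg_ev_mem (by decide) h1 _))
    (sg_ev_mem (by decide) h2 _)) (sg_ev_mem (by decide) h1 _)

theorem sigma_conj_dg (v : I → Fˣ) : sigma * dg v * sigma⁻¹ = dg (v ∘ tau) := by
  rw [mul_inv_eq_iff_eq_mul]
  refine gl_ext fun x => funext fun i => ?_
  simp only [act_mul, act_sigma, act_dg, Function.comp_apply]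

theorem sq_mem (l : Fˣ) : dg (tor 1 (l * l)) ∈ rootGroup F := by
  have h1 : dg (tor l l) ∈ rootGroup F := by
    have h := mSet_normalize (Or.inr rfl) (tor_inv_mem (F := F) (l := l))
    rw [sigma_conj_dg] at h
    convert h using 2
    funext i
    revert i
    rw [forall_I]
    simp [tor, tau, o, e₁, e₂, f₁, f₂]
  have h2 := mul_mem h1 (tor_inv_mem (F := F) (l := l⁻¹))
  rwa [dg_mul, tor_mul, mul_inv_cancel, inv_inv] at h2

theorem pairTor_valid : ∀ (p : I), p ≠ o → ∀ u : Fˣ,
    Valid (fun i => if i = p then u else if i = bar p then u⁻¹ else 1) := by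
  rw [forall_I]
  simp [Valid, bar, o, e₁, e₂, f₁, f₂]

/-! ### Every isometry -/

/-- Root elements together with the complement. -/
noncomputable def rmGroup (F : Type*) [Field F] : Subgroup (GL I F) :=
  rootGroup F ⊔ Subgroup.closure (mSet F)

theorem of_root {r : GL I F} (hr : r ∈ rootGroup F) : r ∈ rmGroup F := Subgroup.mem_sup_left hr

theorem of_m {m : GL I F} (hm : m ∈ mSet F) : m ∈ rmGroup F :=
  Subgroup.mem_sup_right (Subgroup.subset_closure hm)

theorem act_ev_inj {g h : GL I F} (e : ∀ p, act g (ev p) = act h (ev p)) : g = h := by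
  refine Units.ext (Matrix.ext fun i j => ?_)
  have := congrFun (e j) i
  simpa [act_apply, ev] using this

/-- A Siegel element sending a singular vector with a non-zero coordinate into a line. -/
theorem clear {p : I} (hp : p ≠ o) {x : I → F} (hx : qf F x = 0) (hxp : x (bar p) ≠ 0) :
    ∃ z, QuadraticMap.polar (⇑(qf F)) (ev p) z = 0 ∧
      (∀ i, i ≠ p → i ≠ bar p → z i = -(x i / x (bar p))) ∧ z p = 0 ∧
      act (sg (qf F) (ev p) z) x = x (bar p) • ev (bar p) := by
  have hbp : bar p ≠ p := by revert hp; revert p; rw [forall_I]; simp [bar, o, e₁, e₂, f₁, f₂]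
  have hbo : bar p ≠ o := by revert hp; revert p; rw [forall_I]; simp [bar, o, e₁, e₂, f₁, f₂]
  set z : I → F := fun i => if i = p ∨ i = bar p then 0 else -(x i / x (bar p)) with hz
  have h0 : QuadraticMap.polar (⇑(qf F)) (ev p) z = 0 := by rw [B_ev hp, hz]; simp
  refine ⟨z, h0, fun i h1 h2 => by simp [hz, h1, h2], by simp [hz], ?_⟩
  set r := sg (qf F) (ev p) z with hr
  have hri : r ∈ isometryGroup F (⇑(qf F)) := sg_mem_iso _ _ _
  have hco : ∀ i, i ≠ p → act r x i = if i = bar p then x (bar p) else 0 := by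
    intro i hi
    rw [hr, act_sg _ (Q_ev hp) h0, B_ev hp]
    by_cases e : i = bar p
    · subst e; simp [hz, ev, hi]
    · simp only [Pi.add_apply, Pi.sub_apply, Pi.smul_apply, smul_eq_mul, ev, Pi.single_eq_of_ne hi, hz,
        hi, e, false_or, if_false]
      field_simp
      ring
  have hdec : act r x = x (bar p) • ev (bar p) + act r x p • ev p := by
    funext i
    by_cases hi : i = p
    · subst hi; simp [ev, hbp.symm]
    · rw [hco i hi]
      by_cases e : i = bar p <;> simp [ev, e, hi, hbp]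
  have hq : qf F (act r x) = 0 := (Q_act hri x).trans hx
  rw [hdec, QuadraticMap.map_add (qf F), QuadraticMap.map_smul, QuadraticMap.map_smul, Q_ev hp, Q_ev hbo,
    QuadraticMap.polar_smul_left, QuadraticMap.polar_smul_right, B_ev hbo, bar_bar, smul_eq_mul,
    smul_eq_mul] at hq
  have : act r x p = 0 := by
    simpa [ev, hxp] using hq
  rw [hdec, this, zero_smul, add_zero]

theorem eq_scalar_of_fix {g : GL I F} (hg : g ∈ isometryGroup F (⇑(qf F)))
    (hfix : ∀ p, p ≠ o → act g (ev p) = ev p) : g ∈ rmGroup F := by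
  have h0 : ∀ p, p ≠ o → act g (ev o) (bar p) = 0 := by
    intro p hp
    have h := B_act hg (ev p) (ev o)
    rw [hfix p hp, B_ev hp, B_ev hp] at h
    have : bar p ≠ o := fun e => hp (by rw [← bar_bar p, e]; rfl)
    rw [h]; simp [ev, this]
  set c := act g (ev o) o with hc
  have hdec : act g (ev o) = c • ev o := by
    funext i
    by_cases hi : i = o
    · subst hi
      rw [Pi.smul_apply, smul_eq_mul, show ev (F := F) o o = 1 from Pi.single_eq_same _ _, mul_one, hc]
    · have := h0 (bar i) (fun e => hi (by rw [← bar_bar i, e]; rfl))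
      rw [bar_bar] at this
      rw [this, Pi.smul_apply, smul_eq_mul, show ev (F := F) o i = 0 from Pi.single_eq_of_ne hi _, mul_zero]
  have hq := Q_act hg (ev (F := F) o)
  rw [hdec, QuadraticMap.map_smul, Q_ev_o, smul_eq_mul, mul_one] at hq
  have hv : Valid (fun i : I => if i = o then Units.mk0 c (fun e => by simp [e] at hq) else 1) := by
    refine ⟨Units.ext ?_, ?_, ?_⟩ <;> simp [o, e₁, e₂, f₁, f₂, hq]
  refine of_m (Or.inl ⟨_, hv, act_ev_inj fun p => ?_⟩)
  rw [act_dg_ev]
  by_cases hp : p = o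
  · subst hp; rw [hdec]; simp
  · rw [hfix p hp]; simp [hp]

theorem fix_three {g : GL I F} (hg : g ∈ isometryGroup F (⇑(qf F))) (h1 : act g (ev e₁) = ev e₁)
    (h2 : act g (ev f₁) = ev f₁) (h3 : act g (ev e₂) = ev e₂) : g ∈ rmGroup F := by
  set y := act g (ev f₂) with hy
  have y1 : y f₁ = 0 := by
    have h := B_act hg (ev e₁) (ev f₂)
    rw [h1, B_ev (by decide), B_ev (by decide)] at h
    exact h.trans (by simp [ev, bar])
  have y2 : y e₁ = 0 := by
    have h := B_act hg (ev f₁) (ev f₂)
    rw [h2, B_ev (by decide), B_ev (by decide)] at h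
    exact h.trans (by simp [ev, bar])
  have y3 : y f₂ = 1 := by
    have h := B_act hg (ev e₂) (ev f₂)
    rw [h3, B_ev (by decide), B_ev (by decide)] at h
    exact h.trans (by simp [ev, bar])
  obtain ⟨z, hz, hzi, hzp, hact⟩ := clear (by decide : (e₂ : I) ≠ o)
    ((Q_act hg _).trans (Q_ev (by decide : (f₂ : I) ≠ o))) (show y (bar e₂) ≠ 0 by
      show y f₂ ≠ 0; rw [y3]; exact one_ne_zero)
  set r := sg (qf F) (ev e₂) z with hr
  have z1 : z f₁ = 0 := by rw [hzi _ (by decide) (by decide)]; show -(y f₁ / _) = 0; rw [y1]; simp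
  have z2 : z e₁ = 0 := by rw [hzi _ (by decide) (by decide)]; show -(y e₁ / _) = 0; rw [y2]; simp
  have fixv : ∀ p : I, p ≠ o → z (bar p) = 0 → p ≠ f₂ → act r (ev p) = ev p := by
    intro p hp hzp' hpf
    refine act_sg_fix _ (Q_ev (by decide)) hz ?_ ?_
    · rw [B_ev (by decide)]; exact Pi.single_eq_of_ne (by simpa [bar] using hpf.symm) _
    · rw [QuadraticMap.polar_comm, B_ev hp]; exact hzp'
  refine (Subgroup.mul_mem_cancel_left _ (of_root (sg_ev_mem_all (by decide : (e₂ : I) ≠ o) z))).1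
    (eq_scalar_of_fix (mul_mem (sg_mem_iso _ _ _) hg) ?_)
  intro p hp
  rw [act_mul]
  rcases p with ⟨⟩ | i | i
  · exact absurd rfl hp
  · fin_cases i
    · show act r (act g (ev e₁)) = _; rw [h1]; exact fixv _ hp z1 (by decide)
    · show act r (act g (ev e₂)) = _; rw [h3]
      refine act_sg_fix _ (Q_ev (by decide)) hz ?_ ?_
      · rw [B_ev (by decide)]; simp [ev, bar]
      · rw [QuadraticMap.polar_comm, B_ev (by decide)]
        exact (B_ev (by decide) z).symm.trans hz
  · fin_cases i
    · show act r (act g (ev f₁)) = _; rw [h2]; exact fixv _ hp z2 (by decide)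
    · show act r y = _
      rw [hact]
      show y f₂ • ev f₂ = ev f₂
      rw [y3, one_smul]

theorem fix_two {g : GL I F} (hg : g ∈ isometryGroup F (⇑(qf F))) (h1 : act g (ev e₁) = ev e₁)
    (h2 : act g (ev f₁) = ev f₁) : g ∈ rmGroup F := by
  suffices H : ∀ g : GL I F, g ∈ isometryGroup F (⇑(qf F)) → act g (ev e₁) = ev e₁ →
      act g (ev f₁) = ev f₁ → act g (ev e₂) e₂ ≠ 0 → g ∈ rmGroup F by
    by_cases h3 : act g (ev e₂) e₂ = 0
    swap
    · exact H g hg h1 h2 h3
    refine (Subgroup.mul_mem_cancel_left _ (of_m (Or.inr rfl : (sigma : GL I F) ∈ mSet F))).1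
      (H _ (mul_mem sigma_mem hg) ?_ ?_ ?_)
    · rw [act_mul, h1, act_sigma_ev]; rfl
    · rw [act_mul, h2, act_sigma_ev]; rfl
    · rw [act_mul, act_sigma]
      show act g (ev e₂) f₂ ≠ 0
      intro h4
      have hq := Q_act hg (ev (F := F) e₂)
      have a1 : act g (ev e₂) f₁ = 0 := by
        have h := B_act hg (ev e₁) (ev e₂)
        rw [h1, B_ev (by decide), B_ev (by decide)] at h
        exact h.trans (by simp [ev, bar])
      have a2 : act g (ev e₂) e₁ = 0 := by
        have h := B_act hg (ev f₁) (ev e₂)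
        rw [h2, B_ev (by decide), B_ev (by decide)] at h
        exact h.trans (by simp [ev, bar])
      rw [Q_ev (by decide), qf_eval, h3, h4, a1, a2] at hq
      have a0 : act g (ev e₂) o = 0 := by simpa using hq
      have hz : act g (ev (F := F) e₂) = 0 := funext fun i => by
        revert i; rw [forall_I]; exact ⟨a0, a2, h3, a1, h4⟩
      have := congrFun (act_injective g (hz.trans (map_zero _).symm)) e₂
      simp [ev] at this
  intro g hg h1 h2 h3
  set x := act g (ev e₂) with hx
  have x1 : x f₁ = 0 := by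
    have h := B_act hg (ev e₁) (ev e₂)
    rw [h1, B_ev (by decide), B_ev (by decide)] at h
    exact h.trans (by simp [ev, bar])
  have x2 : x e₁ = 0 := by
    have h := B_act hg (ev f₁) (ev e₂)
    rw [h2, B_ev (by decide), B_ev (by decide)] at h
    exact h.trans (by simp [ev, bar])
  obtain ⟨z, hz, hzi, hzp, hact⟩ := clear (by decide : (f₂ : I) ≠ o)
    ((Q_act hg _).trans (Q_ev (by decide : (e₂ : I) ≠ o))) (show x (bar f₂) ≠ 0 from h3)
  have z1 : z f₁ = 0 := by rw [hzi _ (by decide) (by decide)]; show -(x f₁ / _) = 0; rw [x1]; simp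
  have z2 : z e₁ = 0 := by rw [hzi _ (by decide) (by decide)]; show -(x e₁ / _) = 0; rw [x2]; simp
  set d := dg (tor 1 (Units.mk0 (x e₂) h3)⁻¹) with hd
  have hdm : d ∈ mSet F := Or.inl ⟨_, tor_valid _ _, rfl⟩
  refine (Subgroup.mul_mem_cancel_left _ (mul_mem (of_m hdm) (of_root (sg_ev_mem_all (by decide : (f₂ : I) ≠ o) z)))).1
    (fix_three (mul_mem (mul_mem (mSet_iso hdm) (sg_mem_iso _ _ _)) hg) ?_ ?_ ?_)
  · rw [act_mul, h1, act_mul, act_sg_fix _ (Q_ev (by decide)) hz (by rw [B_ev (by decide)]; simp [ev, bar])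
      (by rw [QuadraticMap.polar_comm, B_ev (by decide)]; exact z1), hd, act_dg_ev]
    simp [tor]
  · rw [act_mul, h2, act_mul, act_sg_fix _ (Q_ev (by decide)) hz (by rw [B_ev (by decide)]; simp [ev, bar])
      (by rw [QuadraticMap.polar_comm, B_ev (by decide)]; exact z2), hd, act_dg_ev]
    simp [tor]
  · rw [act_mul, act_mul, ← hx, hact, map_smul]
    show x e₂ • act d (ev e₂) = ev e₂
    rw [hd, act_dg_ev, smul_smul]
    simp [tor, mul_inv_cancel₀ h3]

theorem mem_rmGroup {g : GL I F} (hg : g ∈ isometryGroup F (⇑(qf F))) : g ∈ rmGroup F := by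
  set x := act g (ev (F := F) e₁) with hx
  have hqx : qf F x = 0 := (Q_act hg _).trans (Q_ev (by decide))
  obtain ⟨r, hr, hre⟩ : ∃ r ∈ rootGroup F, act r x e₁ ≠ 0 := by
    by_cases c1 : x e₁ = 0
    swap
    · exact ⟨1, one_mem _, by rwa [act_one]⟩
    by_cases c2 : x f₁ = 0
    · rcases ne_or_eq (x f₂) 0 with c3 | c3
      · refine ⟨_, sg_ev_mem (p := e₂) (q := e₁) (by decide) (by decide) 1, ?_⟩
        rw [act_root (by decide) (by decide)]
        simpa [ev, bar, c1] using c3
      rcases ne_or_eq (x e₂) 0 with c4 | c4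
      · refine ⟨_, sg_ev_mem (p := f₂) (q := e₁) (by decide) (by decide) 1, ?_⟩
        rw [act_root (by decide) (by decide)]
        simpa [ev, bar, c1] using c4
      exfalso
      rw [qf_eval, c1, c2, c3, c4] at hqx
      have c0 : x o = 0 := by simpa using hqx
      have hz : x = 0 := funext fun i => by revert i; rw [forall_I]; exact ⟨c0, c1, c4, c2, c3⟩
      have := congrFun (act_injective g (hz.trans (map_zero _).symm)) e₁
      simp [ev] at this
    · have hval : ∀ c : F, act (sg (qf F) (ev e₁) (c • ev o)) x e₁ = -(c * (2 * x o) + c * c * x f₁) := by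
        intro c
        rw [act_root (by decide) (by decide), B_ev_o, Q_ev_o]
        simp [ev, bar, c1]
      by_contra hno
      push Not at hno
      have k1 := hno _ (sg_ev_mem (p := e₁) (q := o) (by decide) (by decide) 1)
      have k2 := hno _ (sg_ev_mem (p := e₁) (q := o) (by decide) (by decide) (-1))
      rw [hval] at k1 k2
      have k3 : (2 : F) * x f₁ = 0 := by linear_combination -k1 - k2
      rcases mul_eq_zero.1 k3 with k4 | k4
      · exact c2 (by linear_combination -k1 - x o * k4)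
      · exact c2 k4
  have hri := rootGroup_le_iso hr
  refine (Subgroup.mul_mem_cancel_left _ (of_root hr)).1 ?_
  set g₁ := r * g with hg₁
  have hg₁i : g₁ ∈ isometryGroup F (⇑(qf F)) := mul_mem hri hg
  have hx1 : act g₁ (ev e₁) e₁ ≠ 0 := by rw [hg₁, act_mul]; exact hre
  obtain ⟨z, hz, -, -, hact⟩ := clear (by decide : (f₁ : I) ≠ o)
    ((Q_act hg₁i _).trans (Q_ev (by decide : (e₁ : I) ≠ o)))
    (show act g₁ (ev e₁) (bar f₁) ≠ 0 from hx1)
  set d := dg (tor (Units.mk0 _ hx1)⁻¹ 1) with hd
  have hdm : d ∈ mSet F := Or.inl ⟨_, tor_valid _ _, rfl⟩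
  refine (Subgroup.mul_mem_cancel_left _
    (mul_mem (of_m hdm) (of_root (sg_ev_mem_all (by decide : (f₁ : I) ≠ o) z)))).1 ?_
  set g₂ := d * sg (qf F) (ev f₁) z * g₁ with hg₂
  have hg₂i : g₂ ∈ isometryGroup F (⇑(qf F)) := mul_mem (mul_mem (mSet_iso hdm) (sg_mem_iso _ _ _)) hg₁i
  have h21 : act g₂ (ev e₁) = ev e₁ := by
    rw [hg₂, act_mul, act_mul, hact, map_smul]
    show act g₁ (ev e₁) e₁ • act d (ev e₁) = ev e₁
    rw [hd, act_dg_ev, smul_smul]
    simp [tor, mul_inv_cancel₀ hx1]
  have y1 : act g₂ (ev f₁) (bar e₁) = 1 := by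
    have h := B_act hg₂i (ev e₁) (ev f₁)
    rw [h21, B_ev (by decide), B_ev (by decide)] at h
    exact h.trans (by simp [ev, bar])
  obtain ⟨w, hw, -, hwp, hactw⟩ := clear (by decide : (e₁ : I) ≠ o)
    ((Q_act hg₂i _).trans (Q_ev (by decide : (f₁ : I) ≠ o))) (show act g₂ (ev f₁) (bar e₁) ≠ 0 by
      rw [y1]; exact one_ne_zero)
  refine (Subgroup.mul_mem_cancel_left _ (of_root (sg_ev_mem_all (by decide : (e₁ : I) ≠ o) w))).1
    (fix_two (mul_mem (sg_mem_iso _ _ _) hg₂i) ?_ ?_)
  · rw [act_mul, h21, act_sg_fix _ (Q_ev (by decide)) hw (by rw [B_ev (by decide)]; simp [ev, bar])]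
    rw [QuadraticMap.polar_comm, B_ev (by decide)]
    exact (B_ev (by decide) w).symm.trans hw
  · rw [act_mul, hactw, y1, one_smul]; rfl

/-- **The derived isometry group.** -/
theorem omega_eq_rootGroup (hF : ∃ a : F, a ≠ 0 ∧ a ≠ 1) :
    Cfsg.Geo.omegaGL (⇑(qf F)) = rootGroup F := by
  refine le_antisymm ?_ ?_
  · rw [Cfsg.Geo.omegaGL, Subgroup.map_le_iff_le_comap]
    set N := (rootGroup F).comap (isometryGroup F (⇑(qf F))).subtype with hN
    have hnorm : ∀ g ∈ rmGroup F, ∀ s ∈ rootGroup F, g * s * g⁻¹ ∈ rootGroup F := by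
      intro g hg
      rw [rmGroup, rootGroup, ← Subgroup.closure_union] at hg
      induction hg using Subgroup.closure_induction'' with
      | one => simp
      | mem x hx =>
        intro s hs
        rcases hx with hx | hx
        · have hx' : x ∈ rootGroup F := Subgroup.subset_closure hx
          exact mul_mem (mul_mem hx' hs) (inv_mem hx')
        · exact mSet_normalize hx hs
      | inv_mem x hx =>
        intro s hs
        rw [inv_inv]
        rcases hx with hx | hx
        · have hx' : x ∈ rootGroup F := Subgroup.subset_closure hx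
          exact mul_mem (mul_mem (inv_mem hx') hs) hx'
        · rcases hx with ⟨v, hv, rfl⟩ | rfl
          · have hv' : Valid v⁻¹ :=
              ⟨by simp [← mul_inv, hv.1], by simp [← mul_inv, hv.2.1], by simp [← mul_inv, hv.2.2]⟩
            have := mSet_normalize (Or.inl ⟨_, hv', rfl⟩) hs
            rwa [← dg_inv, inv_inv] at this
          · have e : (sigma : GL I F)⁻¹ = sigma := inv_eq_of_mul_eq_one_right sigma_mul_self
            have := mSet_normalize (m := sigma) (Or.inr rfl) hs
            rw [e] at this ⊢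
            exact this
      | mul x y _ _ hx hy =>
        intro s hs
        rw [show x * y * s * (x * y)⁻¹ = x * (y * s * y⁻¹) * x⁻¹ by group]
        exact hx _ (hy s hs)
    have hNn : N.Normal := ⟨fun x hx g => hnorm _ (mem_rmGroup g.2) _ hx⟩
    let π := QuotientGroup.mk' N
    let R : Set (isometryGroup F (⇑(qf F)) ⧸ N) :=
      {c | ∃ m, ∃ hm : m ∈ mSet F, c = π ⟨m, mSet_iso hm⟩}
    have hgen : ∀ g, π g ∈ Subgroup.closure R := by
      rintro ⟨g, hg⟩
      have hle : rmGroup F ≤
          ((Subgroup.closure R).comap π).map (isometryGroup F (⇑(qf F))).subtype := by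
        refine sup_le (fun s hs => ?_) ?_
        · refine ⟨⟨s, rootGroup_le_iso hs⟩, ?_, rfl⟩
          show π _ ∈ Subgroup.closure R
          have h1 : π ⟨s, rootGroup_le_iso hs⟩ = 1 := (QuotientGroup.eq_one_iff _).2 hs
          rw [h1]; exact one_mem _
        · rw [Subgroup.closure_le]
          intro m hm
          exact ⟨⟨m, mSet_iso hm⟩, Subgroup.subset_closure ⟨m, hm, rfl⟩, rfl⟩
      obtain ⟨⟨g', _⟩, hg', rfl⟩ := hle (mem_rmGroup hg)
      exact hg'
    have hst : ∀ v : I → Fˣ, ∀ hv : Valid v,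
        Commute (π ⟨sigma, sigma_mem⟩) (π ⟨dg v, dg_mem hv⟩) := by
      intro v hv
      have key : sigma * dg v * sigma⁻¹ * (dg v)⁻¹ ∈ rootGroup F := by
        rw [sigma_conj_dg, dg_inv, dg_mul]
        have := sq_mem ((v e₂)⁻¹)
        convert this using 2
        have hf : v f₂ = (v e₂)⁻¹ := eq_inv_of_mul_eq_one_right hv.2.2
        funext i
        revert i
        rw [forall_I]
        simp [tor, tau, o, e₁, e₂, f₁, f₂]
        simp [o, e₁, e₂, f₁, f₂] at hf
        simp [hf]
      have h1 : π (⁅(⟨sigma, sigma_mem⟩ : ↥(isometryGroup F (⇑(qf F)))), ⟨dg v, dg_mem hv⟩⁆) = 1 :=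
        (QuotientGroup.eq_one_iff _).2 key
      rw [map_commutatorElement, commutatorElement_eq_one_iff_mul_comm] at h1
      exact h1
    have hcomm : ∀ x ∈ R, ∀ y ∈ R, Commute x y := by
      rintro _ ⟨a, ha, rfl⟩ _ ⟨b, hb, rfl⟩
      rcases ha with ⟨v, hv, rfl⟩ | rfl <;> rcases hb with ⟨w, hw, rfl⟩ | rfl
      · exact Commute.map (Subtype.ext ((dg_mul v w).trans (by rw [mul_comm v w, ← dg_mul]; rfl))) π
      · exact (hst v hv).symm
      · exact hst w hw
      · exact Commute.refl _
    refine Subgroup.commutator_le.2 fun g _ h _ => (QuotientGroup.eq_one_iff _).1 ?_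
    show π ⁅g, h⁆ = 1
    rw [map_commutatorElement, commutatorElement_eq_one_iff_mul_comm]
    have : ∀ x ∈ Subgroup.closure R, ∀ y ∈ Subgroup.closure R, Commute x y := by
      intro x hx y hy
      induction hx, hy using Subgroup.closure_induction₂ with
      | mem x y hx hy => exact hcomm x hx y hy
      | one_left x _ => exact Commute.one_left _
      | one_right x _ => exact Commute.one_right _
      | mul_left x y z _ _ _ hxz hyz => exact hxz.mul_left hyz
      | mul_right x y z _ _ _ hxy hxz => exact hxy.mul_right hxz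
      | inv_left x y _ _ h => exact h.inv_left
      | inv_right x y _ _ h => exact h.inv_right
    exact (this _ (hgen g) _ (hgen h)).eq
  · rw [rootGroup, Subgroup.closure_le]
    rintro _ ⟨r, t, rfl⟩
    obtain ⟨⟨hp, hq⟩, -⟩ := root_ok r
    obtain ⟨a, ha0, ha1⟩ := hF
    set p := ix (rootAt r.val).1 with hpdef
    set q := ix (rootAt r.val).2.1 with hqdef
    have hqp : q ≠ p := by
      rw [hpdef, hqdef]
      exact (show ∀ r : Fin 8, ix (rootAt r.val).2.1 ≠ ix (rootAt r.val).1 by decide +kernel) r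
    let v : I → Fˣ := fun i =>
      if i = p then Units.mk0 a ha0 else if i = bar p then (Units.mk0 a ha0)⁻¹ else 1
    have hv : Valid v := pairTor_valid p hp (Units.mk0 a ha0)
    have hsa : (a - 1) ≠ 0 := sub_ne_zero.2 ha1
    set c := ((rootAt r.val).2.2 : F) * t / (a - 1) with hc
    have hmem := commutator_mem_omega (Q := qf F) (dg_mem hv) (sg_mem_iso (qf F) (ev p) (c • ev q))
    rw [conj_dg hv hp hq, ← sg_neg _ (Q_ev hp) (B_ev_smul hp hq _),
      sg_add _ (Q_ev hp) (B_ev_smul hp hq _) (by rw [← neg_smul]; exact B_ev_smul hp hq _)] at hmem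
    have e : (c * ((v p : F) * v q)) • ev (F := F) q + -(c • ev q) =
        (((rootAt r.val).2.2 : F) * t) • ev q := by
      simp only [v, if_pos rfl, if_neg hqp, if_neg hq, Units.val_one, mul_one, Units.val_mk0, hc]
      rw [← neg_smul, ← add_smul]
      congr 1
      field_simp
      ring
    rw [e] at hmem
    exact hmem

end Cfsg.Agent.B2Iso
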