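import Cfsg.Agent.Lib.B2Iso.Tables
import Cfsg.Agent.Lib.QForm.Std

/-!
# The adjoint representation of an isometry group in dimension five

On the lattice of the simply connected Lie algebra, in every characteristic: the entries are
`P_k (g ⊗ g) R_l`, for lifts `R_l` of a basis into tensors orthogonal to the polar form and functionals `P_k`
with diagonal a multiple of the form.
-/

set_option autoImplicit false

namespace Cfsg.Agent.B2Iso

open scoped Matrix Kronecker

/-- The index set of the natural module. -/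
abbrev I : Type := Unit ⊕ (Fin 2 ⊕ Fin 2)

/-- The index set of the Lie algebra. -/
abbrev J : Type := Fin 2 ⊕ Fin 8

/-- The partner of a basis vector. -/
def bar : I → I
  | .inl a => .inl a
  | .inr a => .inr (Sum.swap a)

theorem bar_bar : ∀ a : I, bar (bar a) = a := by decide

/-- From numbers to indices. -/
def ix : ℕ → I
  | 0 => .inl ()
  | 1 => .inr (.inl 0)
  | 2 => .inr (.inl 1)
  | 3 => .inr (.inr 0)
  | _ => .inr (.inr 1)

/-- The place of a basis vector of the Lie algebra in the tables. -/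
def pos : J → ℕ
  | .inl i => i.val
  | .inr r => 2 + r.val

/-- The lift of a basis vector. -/
def Rk (k : J) : List (ℕ × ℕ × ℤ) := lifts.getD (pos k) []

/-- The functional of a basis vector. -/
def Pk (k : J) : List (ℕ × ℕ × ℤ) := coords.getD (pos k) []

/-- The polar form on basis vectors. -/
def jint (a b : I) : ℤ := (if bar a = b then 1 else 0) + (if a = .inl () ∧ b = .inl () then 1 else 0)

variable {F : Type*} [Field F]

/-- The quadratic form. -/
noncomputable def qf (F : Type*) [Field F] : QuadraticForm F (I → F) :=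
  QuadraticMap.proj (.inl ()) (.inl ()) + ∑ i : Fin 2, QuadraticMap.proj (.inr (.inl i)) (.inr (.inr i))

theorem qf_apply (v : I → F) : qf F v = quadFormOdd 2 F v := by
  simp [qf, quadFormOdd, QuadraticMap.proj_apply, sq]

theorem coe_qf : ⇑(qf F) = quadFormOdd 2 F := funext qf_apply

/-- The tensor or functional of a list. -/
def vec (L : List (ℕ × ℕ × ℤ)) : I × I → F :=
  (L.map fun e => Pi.single (ix e.1, ix e.2.1) (e.2.2 : F)).sum

theorem vec_dot (L : List (ℕ × ℕ × ℤ)) (f : I × I → F) :
    vec L ⬝ᵥ f = (L.map fun e => (e.2.2 : F) * f (ix e.1, ix e.2.1)).sum := by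
  induction L with
  | nil => simp [vec]
  | cons e L ih =>
    have : vec (F := F) (e :: L) = Pi.single (ix e.1, ix e.2.1) (e.2.2 : F) + vec L := by simp [vec]
    rw [this, add_dotProduct, single_dotProduct, ih, List.map_cons, List.sum_cons]

theorem dot_vec (L : List (ℕ × ℕ × ℤ)) (f : I × I → F) :
    f ⬝ᵥ vec L = (L.map fun e => (e.2.2 : F) * f (ix e.1, ix e.2.1)).sum := by
  rw [dotProduct_comm, vec_dot]

/-- A pure tensor. -/
def tens (u v : I → F) : I × I → F := fun p => u p.1 * v p.2

theorem tens_single (a b : I) : tens (Pi.single a (1 : F)) (Pi.single b 1) = Pi.single (a, b) 1 := by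
  funext p
  obtain ⟨c, d⟩ := p
  by_cases h1 : c = a <;> by_cases h2 : d = b <;> simp [tens, h1, h2]

theorem kron_mulVec_tens (A : Matrix I I F) (u v : I → F) :
    (A ⊗ₖ A) *ᵥ tens u v = tens (A *ᵥ u) (A *ᵥ v) := by
  funext p
  simp only [tens, Matrix.mulVec, dotProduct, Matrix.kroneckerMap_apply, Fintype.sum_prod_type,
    Finset.sum_mul_sum]
  exact Finset.sum_congr rfl fun i _ => Finset.sum_congr rfl fun j _ => by ring

theorem apply_eq_dot_tens (β : I × I → F) (a b : I) :
    β (a, b) = β ⬝ᵥ tens (Pi.single a 1) (Pi.single b 1) := by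
  rw [tens_single, dotProduct_single, mul_one]

/-- The polar form as a functional on tensors. -/
def jvec : I × I → F := fun p => (jint p.1 p.2 : F)

theorem polar_qf (u v : I → F) :
    QuadraticMap.polar (⇑(qf F)) u v = 2 * u (.inl ()) * v (.inl ()) +
      (u (.inr (.inl 0)) * v (.inr (.inr 0)) + u (.inr (.inr 0)) * v (.inr (.inl 0))) +
      (u (.inr (.inl 1)) * v (.inr (.inr 1)) + u (.inr (.inr 1)) * v (.inr (.inl 1))) := by
  rw [coe_qf, QForm.polar_odd, Fin.sum_univ_two]
  ring

theorem jvec_dot (u v : I → F) : jvec ⬝ᵥ tens u v = QuadraticMap.polar (⇑(qf F)) u v := by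
  rw [polar_qf]
  simp [dotProduct, Fintype.sum_prod_type, Fintype.sum_sum_type, Fin.sum_univ_two, jvec, tens, jint, bar]
  ring

theorem jvec_invariant {A : Matrix I I F} (hA : ∀ v, qf F (A *ᵥ v) = qf F v) :
    jvec ᵥ* (A ⊗ₖ A) = (jvec : I × I → F) := by
  funext p
  obtain ⟨a, b⟩ := p
  rw [apply_eq_dot_tens (jvec ᵥ* _), apply_eq_dot_tens jvec, ← Matrix.dotProduct_mulVec,
    kron_mulVec_tens, jvec_dot, jvec_dot]
  simp only [QuadraticMap.polar, ← Matrix.mulVec_add, hA]

/-- Functionals whose diagonal is a multiple of the quadratic form. -/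
def Adm (β : I × I → F) : Prop := ∃ c : F, ∀ v, β ⬝ᵥ tens v v = c * qf F v

theorem Adm.kron {β : I × I → F} (h : Adm β) {A : Matrix I I F}
    (hA : ∀ v, qf F (A *ᵥ v) = qf F v) : Adm (β ᵥ* (A ⊗ₖ A)) := by
  obtain ⟨c, hc⟩ := h
  exact ⟨c, fun v => by rw [← Matrix.dotProduct_mulVec, kron_mulVec_tens, hc, hA]⟩

theorem adm_Pk (k : J) : Adm (vec (F := F) (Pk k)) := by
  refine ⟨if k = .inl 0 then 1 else 0, fun v => ?_⟩
  rw [vec_dot, qf_apply]
  rcases k with k | k <;> fin_cases k <;>
    simp [Pk, pos, coords, ix, tens, quadFormOdd, Fin.sum_univ_two] <;> ring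

theorem Adm.entries {β : I × I → F} (h : Adm β) :
    ∃ c : F, (∀ a, β (a, a) = if a = .inl () then c else 0) ∧
      ∀ a b, a ≠ b → β (a, b) = c * (jint a b : F) - β (b, a) := by
  obtain ⟨c, hc⟩ := h
  have hd : ∀ a : I, β (a, a) = if a = .inl () then c else 0 := fun a => by
    rw [apply_eq_dot_tens β a a, hc, qf_apply]
    rcases a with i | i | i <;> simp [quadFormOdd]
  refine ⟨c, hd, fun a b hab => ?_⟩
  have h1 := hc ((Pi.single a 1 : I → F) + Pi.single b 1)
  have h2 : ∀ u v : I → F, tens (u + v) (u + v) = tens u u + tens u v + (tens v u + tens v v) := by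
    intro u v
    funext p; simp only [tens, Pi.add_apply]; ring
  have h3 : qf F ((Pi.single a 1 : I → F) + Pi.single b 1) =
      (if a = .inl () then 1 else 0) + (if b = .inl () then 1 else 0) + (jint a b : F) := by
    rw [qf_apply]
    rcases a with i | i | i <;> rcases b with j | j | j <;>
      simp only [quadFormOdd, Pi.add_apply, Fin.sum_univ_two] <;>
      fin_cases i <;> fin_cases j <;> simp [jint, bar] at hab ⊢
  rw [h2, dotProduct_add, dotProduct_add, dotProduct_add, ← apply_eq_dot_tens, ← apply_eq_dot_tens,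
    ← apply_eq_dot_tens, ← apply_eq_dot_tens, hd, hd, h3] at h1
  by_cases e1 : a = .inl () <;> by_cases e2 : b = .inl ()
  · exact absurd (e1.trans e2.symm) hab
  all_goals simp only [e1, e2, if_true, if_false] at h1 ⊢; linear_combination h1

set_option maxHeartbeats 2000000 in
/-- The lifts and functionals are dual bases up to the polar form. -/
theorem expand {β X : I × I → F} (hβ : Adm β) (hX : jvec ⬝ᵥ X = 0) :
    ∑ k : J, (β ⬝ᵥ vec (Rk k)) * (vec (Pk k) ⬝ᵥ X) = β ⬝ᵥ X := by
  obtain ⟨c, hd, hb⟩ := hβ.entries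
  have hl : β (.inr (.inl 1), .inr (.inl 0)) = -β (.inr (.inl 0), .inr (.inl 1)) := by
    rw [hb _ _ (by decide)]; simp [jint, bar]
  have hr : β (.inr (.inr 1), .inr (.inr 0)) = -β (.inr (.inr 0), .inr (.inr 1)) := by
    rw [hb _ _ (by decide)]; simp [jint, bar]
  have hm : ∀ i j : Fin 2, β (.inr (.inr i), .inr (.inl j)) =
      c * (if i = j then 1 else 0) - β (.inr (.inl j), .inr (.inr i)) := fun i j => by
    rw [hb _ _ (by simp)]; simp [jint, bar]
  have h0 : ∀ a : Fin 2 ⊕ Fin 2, β (.inr a, .inl ()) = -β (.inl (), .inr a) := fun a => by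
    rw [hb _ _ (by simp)]; simp [jint, bar]
  simp only [dot_vec, vec_dot, Fintype.sum_sum_type, Fin.sum_univ_succ, Fin.sum_univ_zero,
    Rk, Pk, pos, lifts, coords]
  simp only [dotProduct, Fintype.sum_prod_type, Fintype.sum_sum_type, Fin.sum_univ_two,
    Fintype.univ_unit, Finset.sum_singleton, jvec] at hX ⊢
  simp [ix, jint, bar] at hX ⊢
  simp only [hl, hr, hm, h0, hd, Fin.reduceEq, if_true, if_false, reduceCtorEq] at hX ⊢
  linear_combination (-(c - β (.inr (.inl 1), .inr (.inr 1)))) * hX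

/-- The matrix of an element on the Lie algebra. -/
def rhoMat (A : Matrix I I F) : Matrix J J F :=
  Matrix.of fun k l => vec (Pk k) ⬝ᵥ ((A ⊗ₖ A) *ᵥ vec (Rk l))

/-- Integer pairing of two tables. -/
def pair (P R : List (ℕ × ℕ × ℤ)) : ℤ :=
  (P.map fun p => p.2.2 * (R.map fun q => q.2.2 * if (ix p.1, ix p.2.1) = (ix q.1, ix q.2.1) then 1 else 0).sum).sum

theorem pair_ok : ∀ k l : J, pair (Pk k) (Rk l) = if k = l then 1 else 0 := by decide +kernel

/-- Integer value of the polar form on a table. -/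
def jsum (R : List (ℕ × ℕ × ℤ)) : ℤ := (R.map fun q => q.2.2 * jint (ix q.1) (ix q.2.1)).sum

theorem jsum_ok : ∀ l : J, jsum (Rk l) = 0 := by decide +kernel

theorem vec_pair (P R : List (ℕ × ℕ × ℤ)) : vec P ⬝ᵥ vec R = ((pair P R : ℤ) : F) := by
  have h : ∀ (R : List (ℕ × ℕ × ℤ)) (z : I × I), vec (F := F) R z =
      (((R.map fun q => q.2.2 * if z = (ix q.1, ix q.2.1) then 1 else 0).sum : ℤ) : F) := by
    intro R z
    rw [vec]
    induction R with
    | nil => simp
    | cons q R ih =>
      simp only [List.map_cons, List.sum_cons, Pi.add_apply, ih, Int.cast_add, Pi.single_apply]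
      split <;> simp
  rw [vec_dot]
  simp only [h, pair]
  induction P with
  | nil => simp
  | cons p P ih => simp only [List.map_cons, List.sum_cons, Int.cast_add, Int.cast_mul, ih]

theorem jvec_lift (l : J) : jvec ⬝ᵥ vec (F := F) (Rk l) = 0 := by
  rw [dot_vec]
  have h : ∀ R : List (ℕ × ℕ × ℤ),
      (R.map fun q => (q.2.2 : F) * jvec (ix q.1, ix q.2.1)).sum = ((jsum R : ℤ) : F) := by
    intro R
    induction R with
    | nil => simp [jsum]
    | cons q R ih =>
      rw [List.map_cons, List.sum_cons, ih]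
      simp only [jsum, List.map_cons, List.sum_cons, Int.cast_add, Int.cast_mul, jvec]
  rw [h, jsum_ok, Int.cast_zero]

theorem rhoMat_one : rhoMat (1 : Matrix I I F) = 1 := by
  ext k l
  rw [rhoMat, Matrix.of_apply, Matrix.one_kronecker_one, Matrix.one_mulVec, vec_pair, pair_ok]
  by_cases h : k = l <;> simp [h, Matrix.one_apply]

theorem rhoMat_mul {A C : Matrix I I F} (hA : ∀ v, qf F (A *ᵥ v) = qf F v)
    (hC : ∀ v, qf F (C *ᵥ v) = qf F v) :
    rhoMat (A * C) = rhoMat A * rhoMat C := by
  ext k m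
  rw [Matrix.mul_apply]
  simp only [rhoMat, Matrix.of_apply]
  rw [Matrix.mul_kronecker_mul, ← Matrix.mulVec_mulVec, Matrix.dotProduct_mulVec _ (A ⊗ₖ A),
    ← expand ((adm_Pk k).kron hA)
      (show jvec ⬝ᵥ ((C ⊗ₖ C) *ᵥ vec (Rk m)) = 0 by
        rw [Matrix.dotProduct_mulVec, jvec_invariant hC, jvec_lift])]
  exact Finset.sum_congr rfl fun l _ => by rw [Matrix.dotProduct_mulVec _ (A ⊗ₖ A)]

variable (F) in
/-- The adjoint representation. -/
noncomputable def rho : ↥(isometryGroup F (⇑(qf F))) →* GL J F :=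
  MonoidHom.toHomUnits
    { toFun := fun g => rhoMat ((g : GL I F) : Matrix I I F)
      map_one' := rhoMat_one
      map_mul' := fun g h => rhoMat_mul (fun v => g.2 v v) fun v => h.2 v v }

theorem rho_apply (g : ↥(isometryGroup F (⇑(qf F)))) :
    ((rho F g : GL J F) : Matrix J J F) = rhoMat ((g : GL I F) : Matrix I I F) := rfl

/-- An element acting trivially fixes the value of each admissible functional on each lift. -/
theorem dot_of_rho_eq_one {g : ↥(isometryGroup F (⇑(qf F)))} (hg : rho F g = 1)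
    {β X : I × I → F} (hβ : Adm β) (hX : jvec ⬝ᵥ X = 0) :
    β ⬝ᵥ ((((g : GL I F) : Matrix I I F) ⊗ₖ ((g : GL I F) : Matrix I I F)) *ᵥ X) = β ⬝ᵥ X := by
  set A := ((g : GL I F) : Matrix I I F) with hAdef
  have hA : ∀ v, qf F (A *ᵥ v) = qf F v := fun v => g.2 v v
  have h1 : rhoMat A = 1 := by rw [hAdef, ← rho_apply, hg]; rfl
  have hrow : ∀ k, vec (F := F) (Pk k) ⬝ᵥ ((A ⊗ₖ A) *ᵥ X) = vec (Pk k) ⬝ᵥ X := by
    intro k
    rw [Matrix.dotProduct_mulVec, ← expand ((adm_Pk k).kron hA) hX, Finset.sum_eq_single k]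
    · have := congrFun (congrFun h1 k) k
      rw [rhoMat, Matrix.of_apply, Matrix.dotProduct_mulVec, Matrix.one_apply_eq] at this
      rw [this, one_mul]
    · intro l _ hl
      have := congrFun (congrFun h1 k) l
      rw [rhoMat, Matrix.of_apply, Matrix.dotProduct_mulVec, Matrix.one_apply_ne hl.symm] at this
      rw [this, zero_mul]
    · simp
  rw [← expand hβ (X := (A ⊗ₖ A) *ᵥ X) (by rw [Matrix.dotProduct_mulVec, jvec_invariant hA, hX]),
    ← expand hβ hX]
  simp only [hrow]

end Cfsg.Agent.B2Iso
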