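import Cfsg.Agent.Lib.B2Iso.Orth
import Cfsg.Agent.Lib.Chev.Elements

/-!
# Root elements of the five-dimensional orthogonal group and of the type B2 tables

The adjoint representation sends the Siegel root elements to the root elements.
-/

set_option autoImplicit false

namespace Cfsg.Agent.B2Iso

open scoped Matrix Kronecker
open Cfsg.Lie Cfsg.Agent.Chev Cfsg.Agent.MaxCl.Orth Cfsg.Agent.MaxCl

variable {F : Type*} [Field F]

theorem B_ev_any (p : I) (b : I) :
    QuadraticMap.polar (⇑(qf F)) (ev p) (ev b) = (jint p b : F) := by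
  rw [← jvec_dot, ev, ev, ← apply_eq_dot_tens, jvec]

theorem Q_ev_any (p : I) : qf F (ev p) = (dlt p o : F) := by
  by_cases h : p = o
  · subst h; rw [Q_ev_o]; simp [dlt]
  · rw [Q_ev h]; simp [dlt, h]

theorem rootEl_apply {r : ℕ} (hr : r < 8) (t : F) (a b : I) :
    ((rootEl r t : GL I F) : Matrix I I F) a b = (dlt a b : F) + t * (lin (rootAt r) a b : F) +
      t ^ 2 * (quad (rootAt r) a b : F) := by
  have h : ((rootEl r t : GL I F) : Matrix I I F) a b = act (rootEl r t) (ev b) a := by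
    rw [act_apply, ev, Matrix.mulVec_single_one]; rfl
  have hj : ev (F := F) b (bar (ix (rootAt r).1)) =
      QuadraticMap.polar (⇑(qf F)) (ev (ix (rootAt r).1)) (ev b) :=
    (B_ev (root_ok ⟨r, hr⟩).1.1 _).symm
  rw [h, rootEl, act_root (root_ok ⟨r, hr⟩).1.1 (root_ok ⟨r, hr⟩).1.2]
  simp only [hj, B_ev_any, Q_ev_any]
  simp only [ev, Pi.add_apply, Pi.sub_apply, Pi.smul_apply, Pi.single_apply, smul_eq_mul, lin, quad, dlt]
  push_cast
  ring

theorem sum_map_five {γ : Type*} (L : List γ) (f₀ f₁ f₂ f₃ f₄ : γ → ℤ) (t : F) :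
    (L.map fun e => (f₀ e : F) + (f₁ e : F) * t + (f₂ e : F) * t ^ 2 + (f₃ e : F) * t ^ 3 +
        (f₄ e : F) * t ^ 4).sum =
      ((L.map f₀).sum : F) + ((L.map f₁).sum : F) * t + ((L.map f₂).sum : F) * t ^ 2 +
        ((L.map f₃).sum : F) * t ^ 3 + ((L.map f₄).sum : F) * t ^ 4 := by
  induction L with
  | nil => simp
  | cons e L ih => simp only [List.map_cons, List.sum_cons, ih, Int.cast_add]; ring

theorem rhoMat_root {r : ℕ} (hr : r < 8) (t : F) (k l : J) :
    rhoMat ((rootEl r t : GL I F) : Matrix I I F) k l =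
      (coef (rootAt r) (Pk k) (Rk l) 0 : F) + (coef (rootAt r) (Pk k) (Rk l) 1 : F) * t +
        (coef (rootAt r) (Pk k) (Rk l) 2 : F) * t ^ 2 + (coef (rootAt r) (Pk k) (Rk l) 3 : F) * t ^ 3 +
          (coef (rootAt r) (Pk k) (Rk l) 4 : F) * t ^ 4 := by
  rw [rhoMat, Matrix.of_apply, vec_dot]
  unfold coef
  rw [← sum_map_five]
  refine congrArg List.sum (List.map_congr_left fun p _ => ?_)
  rw [Matrix.mulVec, dot_vec, ← sum_map_five, ← List.sum_map_mul_left]
  refine congrArg List.sum (List.map_congr_left fun q _ => ?_)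
  simp only [Matrix.kroneckerMap_apply, rootEl_apply hr, term]
  push_cast
  ring

theorem x_entry {r : ℕ} (hr : r < 8) (t : F) (k l : chevB2.Idx) :
    chevB2.x F r t k l =
      ((B2.cert.col r (idxNat l)).map fun y =>
        (y.2.2 : F) * t ^ y.2.1 * if idxNat k = y.1 then 1 else 0).sum := by
  have h : chevB2.x F r t k l = (chevB2.x F r t *ᵥ bvec chevB2 F (idxNat l)) k := by
    rw [bvec_idxNat, Matrix.mulVec_single_one]; rfl
  rw [h, B2.valid.mulVec_bvec (show r < chevB2.nroots from hr), colSem, list_sum_map_apply]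
  simp only [Pi.smul_apply, smul_eq_mul, bvec]

theorem colCoef_sum (L : List (ℕ × ℕ × ℤ)) (hL : ∀ y ∈ L, y.2.1 < 5) (t : F) (m : ℕ) :
    (L.map fun y => (y.2.2 : F) * t ^ y.2.1 * if m = y.1 then 1 else 0).sum =
      (colCoef L m 0 : F) + (colCoef L m 1 : F) * t + (colCoef L m 2 : F) * t ^ 2 +
        (colCoef L m 3 : F) * t ^ 3 + (colCoef L m 4 : F) * t ^ 4 := by
  unfold colCoef
  rw [← sum_map_five]
  refine congrArg List.sum (List.map_congr_left fun y hy => ?_)
  have hy' := hL y hy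
  by_cases h1 : m = y.1
  · subst h1
    rcases (show y.2.1 = 0 ∨ y.2.1 = 1 ∨ y.2.1 = 2 ∨ y.2.1 = 3 ∨ y.2.1 = 4 by omega) with
      e | e | e | e | e <;> simp [e]
  · simp [h1, Ne.symm h1]

theorem pos_eq (k : J) : idxNat (D := chevB2) k = pos k := by
  rcases k with i | i <;> rfl

theorem rhoMat_root_eq {r : ℕ} (hr : r < 8) (t : F) :
    rhoMat ((rootEl r t : GL I F) : Matrix I I F) = chevB2.x F r t := by
  refine Matrix.ext fun k l => ?_
  refine (rhoMat_root hr t k l).trans (Eq.trans ?_ (x_entry hr t k l).symm)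
  have h := table_ok ⟨r, hr⟩ l
  refine Eq.trans ?_ (colCoef_sum _ (fun y hy => h.1 y (by rw [← pos_eq]; exact hy)) t _).symm
  rw [pos_eq k, pos_eq l]
  have h0 := congrArg (fun z : ℤ => (z : F)) (h.2 k 0)
  have h1 := congrArg (fun z : ℤ => (z : F) * t) (h.2 k 1)
  have h2 := congrArg (fun z : ℤ => (z : F) * t ^ 2) (h.2 k 2)
  have h3 := congrArg (fun z : ℤ => (z : F) * t ^ 3) (h.2 k 3)
  have h4 := congrArg (fun z : ℤ => (z : F) * t ^ 4) (h.2 k 4)
  exact congrArg₂ (· + ·) (congrArg₂ (· + ·) (congrArg₂ (· + ·) (congrArg₂ (· + ·) h0.symm h1.symm)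
    h2.symm) h3.symm) h4.symm

end Cfsg.Agent.B2Iso
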