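import Mathlib

/-!
# Tables for the five-dimensional orthogonal description of the type B2 tables

Index `0` stands for the anisotropic vector, `1, 2` and `3, 4` for the two halves of a hyperbolic basis.
-/

set_option autoImplicit false

namespace Cfsg.Agent.B2Iso

/-- A lift of each basis vector of the Lie algebra. -/
def lifts : List (List (ℕ × ℕ × ℤ)) :=
  [
    [(2, 4, 1), (4, 2, -1)], 
    [(1, 3, 1), (2, 4, -1)], 
    [(3, 4, -1)], 
    [(0, 3, -1)], 
    [(0, 4, -1)], 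
    [(2, 3, 1)], 
    [(1, 4, 1)], 
    [(0, 2, 1)], 
    [(0, 1, 1)], 
    [(1, 2, 1)]]

/-- The coordinate functionals. -/
def coords : List (List (ℕ × ℕ × ℤ)) :=
  [
    [(0, 0, 1), (1, 3, 1), (2, 4, 1)], 
    [(1, 3, 1), (3, 1, -1)], 
    [(3, 4, -1), (4, 3, 1)], 
    [(0, 3, -1), (3, 0, 1)], 
    [(0, 4, -1), (4, 0, 1)], 
    [(2, 3, 1), (3, 2, -1)], 
    [(1, 4, 1), (4, 1, -1)], 
    [(0, 2, 1), (2, 0, -1)], 
    [(0, 1, 1), (1, 0, -1)], 
    [(1, 2, 1), (2, 1, -1)]]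

/-- For each root `(u, w, s)`: the root element is the Siegel element at `e_u` with vector `s t e_w`. -/
def roots : List (ℕ × ℕ × ℤ) :=
  [(4, 3, -1), (3, 0, -1), (4, 0, -1), (3, 2, 1), (4, 1, 1), (2, 0, 1), (1, 0, 1), (2, 1, 1)]

end Cfsg.Agent.B2Iso
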